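import Cfsg.Agent.Spor.J3a.S.D0

set_option autoImplicit false
set_option maxRecDepth 100000000
set_option Elab.async false

namespace Cfsg.Agent.Spor.J3a.S

theorem gr4 : sub M3 (U.growI W2 [0, 1, 2, 2, 1, 0, 1, 2, 2, 1, 0, 1] (Nat.shiftLeft 1 1)) = true := by decide +kernel

theorem sd6 : U.sends [7] 0 1 = true := by decide +kernel

theorem gr7 : sub (ones 23256) (U.growI ([7] :: W2) [0, 1, 2, 3, 3, 2, 1, 0, 0, 1, 2, 3, 3, 2, 1, 0, 0, 1, 2, 3, 3, 2, 1, 0, 0, 1, 2] (Nat.shiftLeft 1 0)) = true := by decide +kernel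

theorem gr10 : sub M9 (U.growI W2 [1, 2, 2, 1, 0, 1, 2, 2, 1, 0, 1, 2] (Nat.shiftLeft 1 392)) = true := by decide +kernel

theorem sd12 : U.sends [7, 1, 7, 7, 1, 7] 0 392 = true := by decide +kernel

theorem gr13 : sub (ones 23256) (U.growI ([7, 1, 7, 7, 1, 7] :: W2) [0, 2, 3, 3, 2, 1, 0, 0, 1, 2, 3, 3, 2, 1, 0, 0, 1, 2, 3, 3, 2, 1, 0, 0, 1, 2, 3, 3, 2, 1] (Nat.shiftLeft 1 0)) = true := by decide +kernel

theorem gr16 : sub M15 (U.growI W2 [0, 1, 2, 2, 1, 0, 1, 2, 2, 1, 0, 1, 2] (Nat.shiftLeft 1 11)) = true := by decide +kernel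

theorem sd18 : U.sends [7, 1, 7] 0 11 = true := by decide +kernel

theorem gr19 : sub (ones 23256) (U.growI ([7, 1, 7] :: W2) [0, 1, 2, 3, 3, 2, 1, 0, 0, 1, 2, 3, 3, 2, 1, 0, 0, 1, 2, 3, 3, 2, 1, 0] (Nat.shiftLeft 1 0)) = true := by decide +kernel

theorem gr22 : sub M21 (U.growI W2 [0, 1, 2, 2, 1, 0, 1, 2, 2, 1, 0, 1, 2, 2, 1] (Nat.shiftLeft 1 5282)) = true := by decide +kernel

theorem sd24 : U.sends [7, 1, 5, 7, 1, 3, 7, 1, 7] 0 5282 = true := by decide +kernel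

theorem gr25 : sub (ones 23256) (U.growI ([7, 1, 5, 7, 1, 3, 7, 1, 7] :: W2) [0, 1, 2, 3, 3, 2, 1, 0, 0, 1, 2, 3, 3, 2, 1, 0, 0, 1, 2, 3, 3, 2, 1] (Nat.shiftLeft 1 0)) = true := by decide +kernel

theorem gr28 : sub M27 (U.growI W2 [0, 1, 2, 2, 1, 0, 1, 2, 2, 1, 0, 1, 2, 2, 1] (Nat.shiftLeft 1 2693)) = true := by decide +kernel

theorem sd30 : U.sends [7, 1, 7, 3, 5, 7, 1, 7] 0 2693 = true := by decide +kernel

theorem gr31 : sub (ones 23256) (U.growI ([7, 1, 7, 3, 5, 7, 1, 7] :: W2) [0, 1, 2, 3, 3, 2, 1, 0, 0, 1, 2, 3, 3, 2, 1, 0, 0, 1, 2, 3, 3, 2, 1, 0] (Nat.shiftLeft 1 0)) = true := by decide +kernel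

theorem gr34 : sub M33 (U.growI W2 [0, 1, 2, 2, 1, 0, 1, 2, 2, 1, 0, 1, 2, 2, 1] (Nat.shiftLeft 1 3078)) = true := by decide +kernel

theorem sd36 : U.sends [7, 3, 1, 7, 1, 3, 3, 7] 0 3078 = true := by decide +kernel

theorem gr37 : sub (ones 23256) (U.growI ([7, 3, 1, 7, 1, 3, 3, 7] :: W2) [0, 1, 2, 3, 3, 2, 1, 0, 0, 1, 2, 3, 3, 2, 1, 0, 0, 1, 2, 3, 3, 2, 1] (Nat.shiftLeft 1 0)) = true := by decide +kernel

theorem gr40 : sub M39 (U.growI W2 [0, 1, 2, 2, 1, 0, 1, 2, 2, 1, 0, 1, 2, 2, 1] (Nat.shiftLeft 1 1702)) = true := by decide +kernel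

theorem sd42 : U.sends [7, 1, 3, 3, 7, 3, 1, 7] 0 1702 = true := by decide +kernel

theorem gr43 : sub (ones 23256) (U.growI ([7, 1, 3, 3, 7, 3, 1, 7] :: W2) [0, 1, 2, 3, 3, 2, 1, 0, 0, 1, 2, 3, 3, 2, 1, 0, 0, 1, 2, 3, 3, 2, 1] (Nat.shiftLeft 1 0)) = true := by decide +kernel

theorem gr46 : sub M45 (U.growI W2 [0, 1, 2, 2, 1, 0, 1, 2, 2, 1, 0, 1, 2, 2, 1] (Nat.shiftLeft 1 3490)) = true := by decide +kernel

theorem sd48 : U.sends [7, 1, 7, 7, 3, 7, 1, 3, 7] 0 3490 = true := by decide +kernel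

theorem gr49 : sub (ones 23256) (U.growI ([7, 1, 7, 7, 3, 7, 1, 3, 7] :: W2) [0, 1, 2, 3, 3, 2, 1, 0, 0, 1, 2, 3, 3, 2, 1, 0, 0, 1, 2, 3, 3, 2, 1, 0] (Nat.shiftLeft 1 0)) = true := by decide +kernel

theorem gr52 : sub M51 (U.growI W2 [0, 1, 2, 2, 1, 0, 1, 2, 2, 1, 0, 1, 2, 2, 1, 0] (Nat.shiftLeft 1 33)) = true := by decide +kernel

theorem sd54 : U.sends [7, 1, 7, 7] 0 33 = true := by decide +kernel

theorem gr55 : sub (ones 23256) (U.growI ([7, 1, 7, 7] :: W2) [0, 1, 2, 3, 3, 2, 1, 0, 0, 1, 2, 3, 3, 2, 1, 0, 0, 1, 2, 3, 3, 2, 1] (Nat.shiftLeft 1 0)) = true := by decide +kernel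

theorem gr58 : sub M57 (U.growI W2 [0, 1, 2, 2, 1, 0, 1, 2, 2, 1, 0, 1, 2, 2, 1, 0] (Nat.shiftLeft 1 25)) = true := by decide +kernel

theorem sd60 : U.sends [7, 1, 3, 7] 0 25 = true := by decide +kernel

theorem gr61 : sub (ones 23256) (U.growI ([7, 1, 3, 7] :: W2) [0, 1, 2, 3, 3, 2, 1, 0, 0, 1, 2, 3, 3, 2, 1, 0, 0, 1, 2, 3, 3, 2, 1, 0] (Nat.shiftLeft 1 0)) = true := by decide +kernel

theorem gr64 : sub M63 (U.growI W2 [0, 1, 2, 2, 1, 0, 1, 2, 2, 1, 0, 1, 2, 2, 1, 0] (Nat.shiftLeft 1 81)) = true := by decide +kernel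

theorem sd66 : U.sends [7, 1, 3, 7, 7] 0 81 = true := by decide +kernel

theorem gr67 : sub (ones 23256) (U.growI ([7, 1, 3, 7, 7] :: W2) [0, 1, 2, 3, 3, 2, 1, 0, 0, 1, 2, 3, 3, 2, 1, 0, 0, 1, 2, 3, 3, 2, 1] (Nat.shiftLeft 1 0)) = true := by decide +kernel

theorem gr70 : sub M69 (U.growI W2 [0, 1, 2, 2, 1, 0, 1, 2, 2, 1, 0, 1, 2, 2, 1, 0] (Nat.shiftLeft 1 36)) = true := by decide +kernel

theorem sd72 : U.sends [7, 3, 1, 7] 0 36 = true := by decide +kernel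

theorem gr73 : sub (ones 23256) (U.growI ([7, 3, 1, 7] :: W2) [0, 1, 2, 3, 3, 2, 1, 0, 0, 1, 2, 3, 3, 2, 1, 0, 0, 1, 2, 3, 3, 2, 1, 0] (Nat.shiftLeft 1 0)) = true := by decide +kernel

theorem gr76 : sub M75 (U.growI W2 [0, 1, 2, 2, 1, 0, 1, 2, 2, 1, 0, 1, 2, 2, 1, 0] (Nat.shiftLeft 1 129)) = true := by decide +kernel

theorem sd78 : U.sends [7, 3, 1, 7, 7] 0 129 = true := by decide +kernel

theorem gr79 : sub (ones 23256) (U.growI ([7, 3, 1, 7, 7] :: W2) [0, 1, 2, 3, 3, 2, 1, 0, 0, 1, 2, 3, 3, 2, 1, 0, 0, 1, 2, 3, 3, 2, 1] (Nat.shiftLeft 1 0)) = true := by decide +kernel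

theorem gr82 : sub M81 (U.growI W2 [0, 1, 2, 2, 1, 0, 1, 2, 2, 1, 0, 1, 2, 2, 1, 0] (Nat.shiftLeft 1 72)) = true := by decide +kernel

theorem sd84 : U.sends [7, 1, 3, 3, 7] 0 72 = true := by decide +kernel

theorem gr85 : sub (ones 23256) (U.growI ([7, 1, 3, 3, 7] :: W2) [0, 1, 2, 3, 3, 2, 1, 0, 0, 1, 2, 3, 3, 2, 1, 0, 0, 1, 2, 3, 3, 2, 1, 0] (Nat.shiftLeft 1 0)) = true := by decide +kernel

theorem gr88 : sub M87 (U.growI W2 [0, 1, 2, 2, 1, 0, 1, 2, 2, 1, 0, 1, 2, 2, 1, 0] (Nat.shiftLeft 1 132)) = true := by decide +kernel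

theorem sd90 : U.sends [7, 3, 3, 1, 7] 0 132 = true := by decide +kernel

theorem gr91 : sub (ones 23256) (U.growI ([7, 3, 3, 1, 7] :: W2) [0, 1, 2, 3, 3, 2, 1, 0, 0, 1, 2, 3, 3, 2, 1, 0, 0, 1, 2, 3, 3, 2, 1, 0] (Nat.shiftLeft 1 0)) = true := by decide +kernel

theorem gr94 : sub M93 (U.growI W2 [0, 1, 2, 2, 1, 0, 1, 2, 2, 1, 0, 1, 2, 2, 1, 0, 1, 2] (Nat.shiftLeft 1 309)) = true := by decide +kernel

theorem sd96 : U.sends [7, 1, 3, 3, 7, 1, 7, 7] 0 309 = true := by decide +kernel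

theorem gr97 : sub (ones 23256) (U.growI ([7, 1, 3, 3, 7, 1, 7, 7] :: W2) [0, 1, 2, 3, 3, 2, 1, 0, 0, 1, 2, 3, 3, 2, 1, 0, 0, 1, 2, 3, 3, 2, 1] (Nat.shiftLeft 1 0)) = true := by decide +kernel

theorem gr100 : sub M99 (U.growI W2 [0, 1, 2, 2, 1, 0, 1, 2, 2, 1, 0, 1, 2, 2, 1, 0] (Nat.shiftLeft 1 921)) = true := by decide +kernel

theorem sd102 : U.sends [7, 1, 5, 3, 7, 1, 7] 0 921 = true := by decide +kernel

theorem gr103 : sub (ones 23256) (U.growI ([7, 1, 5, 3, 7, 1, 7] :: W2) [0, 1, 2, 3, 3, 2, 1, 0, 0, 1, 2, 3, 3, 2, 1, 0, 0, 1, 2, 3, 3, 2, 1] (Nat.shiftLeft 1 0)) = true := by decide +kernel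

theorem gr106 : sub M105 (U.growI W2 [0, 1, 2, 2, 1, 0, 1, 2, 2, 1, 0, 1, 2, 2, 1, 0, 1] (Nat.shiftLeft 1 1022)) = true := by decide +kernel

theorem sd108 : U.sends [7, 1, 7, 3, 5, 1, 7] 0 1022 = true := by decide +kernel

theorem gr109 : sub (ones 23256) (U.growI ([7, 1, 7, 3, 5, 1, 7] :: W2) [0, 1, 2, 3, 3, 2, 1, 0, 0, 1, 2, 3, 3, 2, 1, 0, 0, 1, 2, 3, 3, 2, 1, 0] (Nat.shiftLeft 1 0)) = true := by decide +kernel

theorem gr112 : sub M111 (U.growI W2 [0, 1, 2, 2, 1, 0, 1, 2, 2, 1, 0, 1, 2, 2, 1, 0, 1] (Nat.shiftLeft 1 641)) = true := by decide +kernel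

theorem sd114 : U.sends [7, 7, 1, 7, 3, 1, 7] 0 641 = true := by decide +kernel

theorem gr115 : sub (ones 23256) (U.growI ([7, 7, 1, 7, 3, 1, 7] :: W2) [0, 1, 2, 3, 3, 2, 1, 0, 0, 1, 2, 3, 3, 2, 1, 0, 0, 1, 2, 3, 3, 2, 1] (Nat.shiftLeft 1 0)) = true := by decide +kernel

theorem gr118 : sub M117 (U.growI W2 [0, 1, 2, 2, 1, 0, 1, 2, 2, 1, 0, 1, 2, 2, 1, 0, 1] (Nat.shiftLeft 1 1996)) = true := by decide +kernel

theorem sd120 : U.sends [7, 1, 3, 7, 1, 3, 7, 7] 0 1996 = true := by decide +kernel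

theorem gr121 : sub (ones 23256) (U.growI ([7, 1, 3, 7, 1, 3, 7, 7] :: W2) [0, 1, 2, 3, 3, 2, 1, 0, 0, 1, 2, 3, 3, 2, 1, 0, 0, 1, 2, 3, 3, 2, 1] (Nat.shiftLeft 1 0)) = true := by decide +kernel

theorem gr124 : sub M123 (U.growI W2 [0, 1, 2, 2, 1, 0, 1, 2, 2, 1, 0, 1, 2, 2, 1, 0] (Nat.shiftLeft 1 822)) = true := by decide +kernel

theorem sd126 : U.sends [7, 1, 3, 7, 3, 1, 7] 0 822 = true := by decide +kernel

theorem gr127 : sub (ones 23256) (U.growI ([7, 1, 3, 7, 3, 1, 7] :: W2) [0, 1, 2, 3, 3, 2, 1, 0, 0, 1, 2, 3, 3, 2, 1, 0, 0, 1, 2, 3, 3, 2, 1] (Nat.shiftLeft 1 0)) = true := by decide +kernel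

theorem gr130 : sub M129 (U.growI W2 [0, 1, 2, 2, 1, 0, 1, 2, 2, 1, 0, 1, 2, 2, 1, 0, 1] (Nat.shiftLeft 1 845)) = true := by decide +kernel

theorem sd132 : U.sends [7, 1, 3, 7, 7, 1, 7] 0 845 = true := by decide +kernel

theorem gr133 : sub (ones 23256) (U.growI ([7, 1, 3, 7, 7, 1, 7] :: W2) [0, 1, 2, 3, 3, 2, 1, 0, 0, 1, 2, 3, 3, 2, 1, 0, 0, 1, 2, 3, 3, 2, 1] (Nat.shiftLeft 1 0)) = true := by decide +kernel

theorem gr136 : sub M135 (U.growI W2 [0, 1, 2, 2, 1, 0, 1, 2, 2, 1, 0, 1, 2, 2, 1, 0] (Nat.shiftLeft 1 2040)) = true := by decide +kernel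

theorem sd138 : U.sends [7, 1, 3, 7, 3, 3, 1, 7] 0 2040 = true := by decide +kernel

theorem gr139 : sub (ones 23256) (U.growI ([7, 1, 3, 7, 3, 3, 1, 7] :: W2) [0, 1, 2, 3, 3, 2, 1, 0, 0, 1, 2, 3, 3, 2, 1, 0, 0, 1, 2, 3, 3, 2, 1] (Nat.shiftLeft 1 0)) = true := by decide +kernel

theorem gr142 : sub M141 (U.growI W2 [0, 1, 2, 2, 1, 0, 1, 2, 2, 1, 0, 1, 2, 2, 1, 0] (Nat.shiftLeft 1 1030)) = true := by decide +kernel

theorem sd144 : U.sends [7, 1, 7, 3, 7, 1, 7] 0 1030 = true := by decide +kernel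

theorem gr145 : sub (ones 23256) (U.growI ([7, 1, 7, 3, 7, 1, 7] :: W2) [0, 1, 2, 3, 3, 2, 1, 0, 0, 1, 2, 3, 3, 2, 1, 0, 0, 1, 2, 3, 3, 2, 1] (Nat.shiftLeft 1 0)) = true := by decide +kernel

theorem gr148 : sub M147 (U.growI W2 [0, 1, 2, 2, 1, 0, 1, 2, 2, 1, 0, 1, 2, 2, 1, 0, 1] (Nat.shiftLeft 1 1053)) = true := by decide +kernel

theorem sd150 : U.sends [7, 1, 7, 7, 1, 3, 7] 0 1053 = true := by decide +kernel

theorem gr151 : sub (ones 23256) (U.growI ([7, 1, 7, 7, 1, 3, 7] :: W2) [0, 1, 2, 3, 3, 2, 1, 0, 0, 1, 2, 3, 3, 2, 1, 0, 0, 1, 2, 3, 3, 2, 1] (Nat.shiftLeft 1 0)) = true := by decide +kernel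

theorem gr154 : sub M153 (U.growI W2 [0, 1, 2, 2, 1, 0, 1, 2, 2, 1, 0, 1, 2, 2, 1, 0, 1, 2] (Nat.shiftLeft 1 813)) = true := by decide +kernel

theorem sd156 : U.sends [7, 1, 3, 7, 1, 3, 7] 0 813 = true := by decide +kernel

theorem gr157 : sub (ones 23256) (U.growI ([7, 1, 3, 7, 1, 3, 7] :: W2) [0, 1, 2, 3, 3, 2, 1, 0, 0, 1, 2, 3, 3, 2, 1, 0, 0, 1, 2, 3, 3, 2, 1] (Nat.shiftLeft 1 0)) = true := by decide +kernel

theorem gr160 : sub M159 (U.growI W2 [0, 1, 2, 2, 1, 0, 1, 2, 2, 1, 0, 1, 2, 2, 1, 0, 1, 2] (Nat.shiftLeft 1 1065)) = true := by decide +kernel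

theorem sd162 : U.sends [7, 1, 7, 7, 3, 1, 7] 0 1065 = true := by decide +kernel

theorem gr163 : sub (ones 23256) (U.growI ([7, 1, 7, 7, 3, 1, 7] :: W2) [0, 1, 2, 3, 3, 2, 1, 0, 0, 1, 2, 3, 3, 2, 1, 0, 0, 1, 2, 3, 3, 2, 1] (Nat.shiftLeft 1 0)) = true := by decide +kernel

theorem ff165 : U.fixFrom 15 23256 1 = true := by decide +kernel

theorem ff166 : U.fixFrom 15 23256 3 = true := by decide +kernel

theorem ff167 : U.fixFrom 15 23256 5 = true := by decide +kernel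

theorem ff168 : U.fixFrom 15 23256 7 = true := by decide +kernel

end Cfsg.Agent.Spor.J3a.S
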