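import Cfsg.Agent.Spor.Prim
import Cfsg.Agent.Spor.J3a.Main
import Cfsg.Agent.Spor.J3a.S.C0

set_option autoImplicit false
set_option maxRecDepth 100000000
set_option Elab.async false

namespace Cfsg.Agent.Spor.J3a.S

theorem hU : U.Ok 15 := U.ok_of 15 (show AllP (fun n => Net.okb 15 n = true) [n0, n1, n2, n3] from AllP.cons ok0 (AllP.cons ok1 (AllP.cons ok2 (AllP.cons ok3 (AllP.nil)))))

theorem hfP : ∀ j < 4, U.fP [1, 3, 5, 7] j = fP j := by
  intro j hj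
  interval_cases j <;> rfl
theorem eG : gsub 4 fP = U.lsub W1 := (gsub_congr hfP).symm.trans (lsub_eq_gsub U [1, 3, 5, 7])
theorem upz1 : ev (atm 4 fP) [0] = U.τ 1 := pz1
theorem upz3 : ev (atm 4 fP) [2] = U.τ 3 := pz2
theorem upz5 : ev (atm 4 fP) [4] = U.τ 5 := pz3
theorem upz7 : ev (atm 4 fP) [6] = U.τ 7 := pz4
theorem eH : wsub 4 fP BW = U.lsub W2 :=
  lsub_eq_of_all₂ (show List.Forall₂ _ [[0], [2], [4]] [[1], [3], [5]] from List.Forall₂.cons (upz1.trans (one_mul _).symm) (List.Forall₂.cons (upz3.trans (one_mul _).symm) (List.Forall₂.cons (upz5.trans (one_mul _).symm) (List.Forall₂.nil))))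
theorem reach5 : Reach (U.lsub W2) 1 M3 := (Reach.grow hU (Reach.base _ 1) gr4)
theorem reach8 : Reach (U.lsub ([7] :: W2)) 0 (ones 23256) := (Reach.grow hU (Reach.base _ 0) gr7)
theorem reach11 : Reach (U.lsub W2) 392 M9 := (Reach.grow hU (Reach.base _ 392) gr10)
theorem reach14 : Reach (U.lsub ([7, 1, 7, 7, 1, 7] :: W2)) 0 (ones 23256) := (Reach.grow hU (Reach.base _ 0) gr13)
theorem reach17 : Reach (U.lsub W2) 11 M15 := (Reach.grow hU (Reach.base _ 11) gr16)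
theorem reach20 : Reach (U.lsub ([7, 1, 7] :: W2)) 0 (ones 23256) := (Reach.grow hU (Reach.base _ 0) gr19)
theorem reach23 : Reach (U.lsub W2) 5282 M21 := (Reach.grow hU (Reach.base _ 5282) gr22)
theorem reach26 : Reach (U.lsub ([7, 1, 5, 7, 1, 3, 7, 1, 7] :: W2)) 0 (ones 23256) := (Reach.grow hU (Reach.base _ 0) gr25)
theorem reach29 : Reach (U.lsub W2) 2693 M27 := (Reach.grow hU (Reach.base _ 2693) gr28)
theorem reach32 : Reach (U.lsub ([7, 1, 7, 3, 5, 7, 1, 7] :: W2)) 0 (ones 23256) := (Reach.grow hU (Reach.base _ 0) gr31)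
theorem reach35 : Reach (U.lsub W2) 3078 M33 := (Reach.grow hU (Reach.base _ 3078) gr34)
theorem reach38 : Reach (U.lsub ([7, 3, 1, 7, 1, 3, 3, 7] :: W2)) 0 (ones 23256) := (Reach.grow hU (Reach.base _ 0) gr37)
theorem reach41 : Reach (U.lsub W2) 1702 M39 := (Reach.grow hU (Reach.base _ 1702) gr40)
theorem reach44 : Reach (U.lsub ([7, 1, 3, 3, 7, 3, 1, 7] :: W2)) 0 (ones 23256) := (Reach.grow hU (Reach.base _ 0) gr43)
theorem reach47 : Reach (U.lsub W2) 3490 M45 := (Reach.grow hU (Reach.base _ 3490) gr46)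
theorem reach50 : Reach (U.lsub ([7, 1, 7, 7, 3, 7, 1, 3, 7] :: W2)) 0 (ones 23256) := (Reach.grow hU (Reach.base _ 0) gr49)
theorem reach53 : Reach (U.lsub W2) 33 M51 := (Reach.grow hU (Reach.base _ 33) gr52)
theorem reach56 : Reach (U.lsub ([7, 1, 7, 7] :: W2)) 0 (ones 23256) := (Reach.grow hU (Reach.base _ 0) gr55)
theorem reach59 : Reach (U.lsub W2) 25 M57 := (Reach.grow hU (Reach.base _ 25) gr58)
theorem reach62 : Reach (U.lsub ([7, 1, 3, 7] :: W2)) 0 (ones 23256) := (Reach.grow hU (Reach.base _ 0) gr61)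
theorem reach65 : Reach (U.lsub W2) 81 M63 := (Reach.grow hU (Reach.base _ 81) gr64)
theorem reach68 : Reach (U.lsub ([7, 1, 3, 7, 7] :: W2)) 0 (ones 23256) := (Reach.grow hU (Reach.base _ 0) gr67)
theorem reach71 : Reach (U.lsub W2) 36 M69 := (Reach.grow hU (Reach.base _ 36) gr70)
theorem reach74 : Reach (U.lsub ([7, 3, 1, 7] :: W2)) 0 (ones 23256) := (Reach.grow hU (Reach.base _ 0) gr73)
theorem reach77 : Reach (U.lsub W2) 129 M75 := (Reach.grow hU (Reach.base _ 129) gr76)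
theorem reach80 : Reach (U.lsub ([7, 3, 1, 7, 7] :: W2)) 0 (ones 23256) := (Reach.grow hU (Reach.base _ 0) gr79)
theorem reach83 : Reach (U.lsub W2) 72 M81 := (Reach.grow hU (Reach.base _ 72) gr82)
theorem reach86 : Reach (U.lsub ([7, 1, 3, 3, 7] :: W2)) 0 (ones 23256) := (Reach.grow hU (Reach.base _ 0) gr85)
theorem reach89 : Reach (U.lsub W2) 132 M87 := (Reach.grow hU (Reach.base _ 132) gr88)
theorem reach92 : Reach (U.lsub ([7, 3, 3, 1, 7] :: W2)) 0 (ones 23256) := (Reach.grow hU (Reach.base _ 0) gr91)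
theorem reach95 : Reach (U.lsub W2) 309 M93 := (Reach.grow hU (Reach.base _ 309) gr94)
theorem reach98 : Reach (U.lsub ([7, 1, 3, 3, 7, 1, 7, 7] :: W2)) 0 (ones 23256) := (Reach.grow hU (Reach.base _ 0) gr97)
theorem reach101 : Reach (U.lsub W2) 921 M99 := (Reach.grow hU (Reach.base _ 921) gr100)
theorem reach104 : Reach (U.lsub ([7, 1, 5, 3, 7, 1, 7] :: W2)) 0 (ones 23256) := (Reach.grow hU (Reach.base _ 0) gr103)
theorem reach107 : Reach (U.lsub W2) 1022 M105 := (Reach.grow hU (Reach.base _ 1022) gr106)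
theorem reach110 : Reach (U.lsub ([7, 1, 7, 3, 5, 1, 7] :: W2)) 0 (ones 23256) := (Reach.grow hU (Reach.base _ 0) gr109)
theorem reach113 : Reach (U.lsub W2) 641 M111 := (Reach.grow hU (Reach.base _ 641) gr112)
theorem reach116 : Reach (U.lsub ([7, 7, 1, 7, 3, 1, 7] :: W2)) 0 (ones 23256) := (Reach.grow hU (Reach.base _ 0) gr115)
theorem reach119 : Reach (U.lsub W2) 1996 M117 := (Reach.grow hU (Reach.base _ 1996) gr118)
theorem reach122 : Reach (U.lsub ([7, 1, 3, 7, 1, 3, 7, 7] :: W2)) 0 (ones 23256) := (Reach.grow hU (Reach.base _ 0) gr121)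
theorem reach125 : Reach (U.lsub W2) 822 M123 := (Reach.grow hU (Reach.base _ 822) gr124)
theorem reach128 : Reach (U.lsub ([7, 1, 3, 7, 3, 1, 7] :: W2)) 0 (ones 23256) := (Reach.grow hU (Reach.base _ 0) gr127)
theorem reach131 : Reach (U.lsub W2) 845 M129 := (Reach.grow hU (Reach.base _ 845) gr130)
theorem reach134 : Reach (U.lsub ([7, 1, 3, 7, 7, 1, 7] :: W2)) 0 (ones 23256) := (Reach.grow hU (Reach.base _ 0) gr133)
theorem reach137 : Reach (U.lsub W2) 2040 M135 := (Reach.grow hU (Reach.base _ 2040) gr136)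
theorem reach140 : Reach (U.lsub ([7, 1, 3, 7, 3, 3, 1, 7] :: W2)) 0 (ones 23256) := (Reach.grow hU (Reach.base _ 0) gr139)
theorem reach143 : Reach (U.lsub W2) 1030 M141 := (Reach.grow hU (Reach.base _ 1030) gr142)
theorem reach146 : Reach (U.lsub ([7, 1, 7, 3, 7, 1, 7] :: W2)) 0 (ones 23256) := (Reach.grow hU (Reach.base _ 0) gr145)
theorem reach149 : Reach (U.lsub W2) 1053 M147 := (Reach.grow hU (Reach.base _ 1053) gr148)
theorem reach152 : Reach (U.lsub ([7, 1, 7, 7, 1, 3, 7] :: W2)) 0 (ones 23256) := (Reach.grow hU (Reach.base _ 0) gr151)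
theorem reach155 : Reach (U.lsub W2) 813 M153 := (Reach.grow hU (Reach.base _ 813) gr154)
theorem reach158 : Reach (U.lsub ([7, 1, 3, 7, 1, 3, 7] :: W2)) 0 (ones 23256) := (Reach.grow hU (Reach.base _ 0) gr157)
theorem reach161 : Reach (U.lsub W2) 1065 M159 := (Reach.grow hU (Reach.base _ 1065) gr160)
theorem reach164 : Reach (U.lsub ([7, 1, 7, 7, 3, 1, 7] :: W2)) 0 (ones 23256) := (Reach.grow hU (Reach.base _ 0) gr163)
noncomputable def X : List SubO := [([7], 1, M3), ([7, 1, 7, 7, 1, 7], 392, M9), ([7, 1, 7], 11, M15), ([7, 1, 5, 7, 1, 3, 7, 1, 7], 5282, M21), ([7, 1, 7, 3, 5, 7, 1, 7], 2693, M27), ([7, 3, 1, 7, 1, 3, 3, 7], 3078, M33), ([7, 1, 3, 3, 7, 3, 1, 7], 1702, M39), ([7, 1, 7, 7, 3, 7, 1, 3, 7], 3490, M45), ([7, 1, 7, 7], 33, M51), ([7, 1, 3, 7], 25, M57), ([7, 1, 3, 7, 7], 81, M63), ([7, 3, 1, 7], 36, M69), ([7, 3, 1, 7, 7], 129, M75), ([7, 1, 3, 3, 7], 72, M81), ([7, 3, 3, 1, 7],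 132, M87), ([7, 1, 3, 3, 7, 1, 7, 7], 309, M93), ([7, 1, 5, 3, 7, 1, 7], 921, M99), ([7, 1, 7, 3, 5, 1, 7], 1022, M105), ([7, 7, 1, 7, 3, 1, 7], 641, M111), ([7, 1, 3, 7, 1, 3, 7, 7], 1996, M117), ([7, 1, 3, 7, 3, 1, 7], 822, M123), ([7, 1, 3, 7, 7, 1, 7], 845, M129), ([7, 1, 3, 7, 3, 3, 1, 7], 2040, M135), ([7, 1, 7, 3, 7, 1, 7], 1030, M141), ([7, 1, 7, 7, 1, 3, 7], 1053, M147), ([7, 1, 3, 7, 1, 3, 7], 813, M153), ([7, 1, 7, 7, 3, 1, 7], 1065, M159)]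
theorem hX : AllP (SubOk U W2 W1) X :=
  show AllP (SubOk U W2 W1) [([7], 1, M3), ([7, 1, 7, 7, 1, 7], 392, M9), ([7, 1, 7], 11, M15), ([7, 1, 5, 7, 1, 3, 7, 1, 7], 5282, M21), ([7, 1, 7, 3, 5, 7, 1, 7], 2693, M27), ([7, 3, 1, 7, 1, 3, 3, 7], 3078, M33), ([7, 1, 3, 3, 7, 3, 1, 7], 1702, M39), ([7, 1, 7, 7, 3, 7, 1, 3, 7], 3490, M45), ([7, 1, 7, 7], 33, M51), ([7, 1, 3, 7], 25, M57), ([7, 1, 3, 7, 7], 81, M63), ([7, 3, 1, 7], 36, M69), ([7, 3, 1, 7, 7], 129, M75), ([7, 1, 3, 3, 7], 72, M81), ([7, 3, 3, 1, 7], 132, M87), ([7, 1, 3, 3, 7, 1, 7, 7], 309, M93), ([7, 1, 5, 3, 7, 1, 7], 921, M99), ([7, 1, 7, 3, 5, 1, 7], 1022, M105), ([7, 7, 1, 7, 3, 1, 7], 641, M111), ([7, 1, 3, 7, 1, 3, 7, 7], 1996, M117), ([7, 1, 3, 7, 3, 1, 7], 822, M123), ([7, 1, 3, 7, 7, 1, 7], 845, M129), ([7, 1, 3, 7, 3, 3, 1, 7], 2040, M135), ([7, 1, 7, 3, 7, 1, 7], 1030, M141), ([7, 1, 7, 7, 1, 3, 7], 1053, M147), ([7, 1,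 3, 7, 1, 3, 7], 813, M153), ([7, 1, 7, 7, 3, 1, 7], 1065, M159)] from AllP.cons ⟨U.mem_letters (by decide), (hU.sends sd6), reach5⟩ (AllP.cons ⟨U.mem_letters (by decide), (hU.sends sd12), reach11⟩ (AllP.cons ⟨U.mem_letters (by decide), (hU.sends sd18), reach17⟩ (AllP.cons ⟨U.mem_letters (by decide), (hU.sends sd24), reach23⟩ (AllP.cons ⟨U.mem_letters (by decide), (hU.sends sd30), reach29⟩ (AllP.cons ⟨U.mem_letters (by decide), (hU.sends sd36), reach35⟩ (AllP.cons ⟨U.mem_letters (by decide), (hU.sends sd42), reach41⟩ (AllP.cons ⟨U.mem_letters (by decide), (hU.sends sd48), reach47⟩ (AllP.cons ⟨U.mem_letters (by decide), (hU.sends sd54), reach53⟩ (AllP.cons ⟨U.mem_letters (by decide), (hU.sends sd60), reach59⟩ (AllP.cons ⟨U.mem_letters (by decide), (hU.sends sd66), reach65⟩ (AllP.cons ⟨U.mem_letters (by decide), (hU.sends sd72), reach71⟩ (AllP.cons ⟨U.mem_letters (by decide), (hU.sends sd78), reach77⟩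 (AllP.cons ⟨U.mem_letters (by decide), (hU.sends sd84), reach83⟩ (AllP.cons ⟨U.mem_letters (by decide), (hU.sends sd90), reach89⟩ (AllP.cons ⟨U.mem_letters (by decide), (hU.sends sd96), reach95⟩ (AllP.cons ⟨U.mem_letters (by decide), (hU.sends sd102), reach101⟩ (AllP.cons ⟨U.mem_letters (by decide), (hU.sends sd108), reach107⟩ (AllP.cons ⟨U.mem_letters (by decide), (hU.sends sd114), reach113⟩ (AllP.cons ⟨U.mem_letters (by decide), (hU.sends sd120), reach119⟩ (AllP.cons ⟨U.mem_letters (by decide), (hU.sends sd126), reach125⟩ (AllP.cons ⟨U.mem_letters (by decide), (hU.sends sd132), reach131⟩ (AllP.cons ⟨U.mem_letters (by decide), (hU.sends sd138), reach137⟩ (AllP.cons ⟨U.mem_letters (by decide), (hU.sends sd144), reach143⟩ (AllP.cons ⟨U.mem_letters (by decide), (hU.sends sd150), reach149⟩ (AllP.cons ⟨U.mem_letters (by decide), (hU.sends sd156), reach155⟩ (AllP.cons ⟨U.mem_letters (by decide),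 (hU.sends sd162), reach161⟩ (AllP.nil)))))))))))))))))))))))))))
theorem hXc : subCov 23256 X = true := by decide +kernel
theorem hY : AllP (fun x : SubO => Reach (U.lsub (x.1 :: W2)) 0 (ones 23256)) X :=
  show AllP (fun x : SubO => Reach (U.lsub (x.1 :: W2)) 0 (ones 23256)) [([7], 1, M3), ([7, 1, 7, 7, 1, 7], 392, M9), ([7, 1, 7], 11, M15), ([7, 1, 5, 7, 1, 3, 7, 1, 7], 5282, M21), ([7, 1, 7, 3, 5, 7, 1, 7], 2693, M27), ([7, 3, 1, 7, 1, 3, 3, 7], 3078, M33), ([7, 1, 3, 3, 7, 3, 1, 7], 1702, M39), ([7, 1, 7, 7, 3, 7, 1, 3, 7], 3490, M45), ([7, 1, 7, 7], 33, M51), ([7, 1, 3, 7], 25, M57), ([7, 1, 3, 7, 7], 81, M63), ([7, 3, 1, 7], 36, M69), ([7, 3, 1, 7, 7], 129, M75), ([7, 1, 3, 3, 7], 72, M81), ([7, 3, 3, 1, 7], 132, M87), ([7, 1, 3, 3, 7, 1, 7, 7], 309, M93), ([7, 1, 5, 3, 7, 1, 7], 921, M99), ([7, 1, 7, 3, 5, 1, 7], 1022, M105), ([7, 7, 1, 7, 3, 1, 7], 641, M111), ([7, 1, 3, 7, 1, 3, 7,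 7], 1996, M117), ([7, 1, 3, 7, 3, 1, 7], 822, M123), ([7, 1, 3, 7, 7, 1, 7], 845, M129), ([7, 1, 3, 7, 3, 3, 1, 7], 2040, M135), ([7, 1, 7, 3, 7, 1, 7], 1030, M141), ([7, 1, 7, 7, 1, 3, 7], 1053, M147), ([7, 1, 3, 7, 1, 3, 7], 813, M153), ([7, 1, 7, 7, 3, 1, 7], 1065, M159)] from AllP.cons reach8 (AllP.cons reach14 (AllP.cons reach20 (AllP.cons reach26 (AllP.cons reach32 (AllP.cons reach38 (AllP.cons reach44 (AllP.cons reach50 (AllP.cons reach56 (AllP.cons reach62 (AllP.cons reach68 (AllP.cons reach74 (AllP.cons reach80 (AllP.cons reach86 (AllP.cons reach92 (AllP.cons reach98 (AllP.cons reach104 (AllP.cons reach110 (AllP.cons reach116 (AllP.cons reach122 (AllP.cons reach128 (AllP.cons reach134 (AllP.cons reach140 (AllP.cons reach146 (AllP.cons reach152 (AllP.cons reach158 (AllP.cons reach164 (AllP.nil)))))))))))))))))))))))))))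
theorem hfix : gsub 4 fP ≤ FixFrom 23256 := (gsub_congr hfP).symm.le.trans (hU.gsub_fix (gs := [1, 3, 5, 7]) (AllP.cons ff165 (AllP.cons ff166 (AllP.cons ff167 (AllP.cons ff168 (AllP.nil))))))

end Cfsg.Agent.Spor.J3a.S
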